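import Mathlib.AlgebraicGeometry.Morphisms.Separated
import Mathlib.AlgebraicGeometry.Morphisms.Affine
import Mathlib.AlgebraicGeometry.Morphisms.QuasiSeparated

/-! # Schemes with affine diagonal over an affine scheme -/

set_option autoImplicit false
universe u

open CategoryTheory CategoryTheory.Limits AlgebraicGeometry

namespace GrothLib.AffDiag22

variable {X Y Z S : Scheme.{u}}

/-- Affine diagonal over an affine base gives affine diagonal. -/
theorem affineDiag_terminal {A : CommRingCat.{u}} (f : X ⟶ Spec A) [IsAffineHom (pullback.diagonal f)] :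
    IsAffineHom (pullback.diagonal (terminal.from X)) := by
  have h : (MorphismProperty.diagonal @IsAffineHom) (f ≫ terminal.from (Spec A)) :=
    MorphismProperty.comp_mem _ _ _ (show (MorphismProperty.diagonal @IsAffineHom) f from ‹_›)
      (show IsAffineHom (pullback.diagonal (terminal.from (Spec A))) from inferInstance)
  rwa [terminal.comp_from] at h

theorem quasiSeparated_of_affineDiag (f : X ⟶ S) [IsAffineHom (pullback.diagonal f)] : QuasiSeparated f :=
  ⟨inferInstance⟩

theorem quasiSeparatedSpace_of_affineDiag {A : CommRingCat.{u}} (f : X ⟶ Spec A)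
    [IsAffineHom (pullback.diagonal f)] : QuasiSeparatedSpace X :=
  haveI := quasiSeparated_of_affineDiag f
  quasiSeparatedSpace_of_quasiSeparated f

theorem affineDiag_comp (f : X ⟶ Y) (g : Y ⟶ Z) [IsAffineHom (pullback.diagonal f)]
    [IsAffineHom (pullback.diagonal g)] : IsAffineHom (pullback.diagonal (f ≫ g)) :=
  MorphismProperty.comp_mem (MorphismProperty.diagonal @IsAffineHom) f g ‹_› ‹_›

theorem affineDiag_of_isPullback {f₁ : X ⟶ S} {f₂ : Y ⟶ S} {p₁ : Z ⟶ X} {p₂ : Z ⟶ Y}
    (sq : IsPullback p₂ p₁ f₂ f₁) [IsAffineHom (pullback.diagonal f₂)] : IsAffineHom (pullback.diagonal p₁) :=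
  MorphismProperty.of_isPullback (P := MorphismProperty.diagonal @IsAffineHom) sq ‹_›

/-- Morphisms from affine schemes are affine. -/
theorem isAffineHom_of_isAffine_source [IsAffineHom (pullback.diagonal (terminal.from X))] {W : Scheme.{u}}
    [IsAffine W] (g : W ⟶ X) : IsAffineHom g :=
  haveI : MorphismProperty.HasOfPostcompProperty @IsAffineHom (MorphismProperty.diagonal @IsAffineHom) :=
    MorphismProperty.hasOfPostcompProperty_iff_le_diagonal.mpr le_rfl
  MorphismProperty.of_postcomp (W := @IsAffineHom) (W' := MorphismProperty.diagonal @IsAffineHom)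
    g (terminal.from X) ‹_› (isAffineHom_of_isAffine (g ≫ terminal.from X))

end GrothLib.AffDiag22
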